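import Cfsg.Agent.H872.KronPres
import Cfsg.Agent.H880.TI
import Cfsg.Agent.H872.TensorBasic
import Cfsg.Agent.H905.SLProper3
set_option linter.all false

-- part: H872/KronTvTwo
section
/-!
A subgroup `M` of `GL (α × β) F` containing `SL(α) ⊗ SL(β)` and an element `1 + Y ⊗ w ψ` with `Y` not
scalar and `ψ w = 0` contains `SL(α × β)`.
-/

set_option autoImplicit false
set_option linter.unusedSectionVars false

namespace Cfsg.Agent.H872

open Matrix Cfsg.Agent.H873
open scoped Kronecker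

variable {α β : Type} [Fintype α] [DecidableEq α] [Fintype β] [DecidableEq β] {F : Type*} [Field F]

theorem vecMulVec_kronecker (u φ : α → F) (w ψ : β → F) :
    vecMulVec u φ ⊗ₖ vecMulVec w ψ = vecMulVec (ten u w) (ten φ ψ) := by
  ext ⟨i, k⟩ ⟨j, l⟩
  simp only [kroneckerMap_apply, vecMulVec_apply, ten_apply]
  ring

theorem ten_single (i : α) (k : β) (c d : F) :
    ten (Pi.single i c) (Pi.single k d) = Pi.single (i, k) (c * d) := by
  funext ⟨j, l⟩
  simp only [ten_apply, Pi.single_apply, Prod.mk.injEq]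
  by_cases h1 : j = i <;> by_cases h2 : l = k <;> simp [h1, h2]

section

variable {M : Subgroup (GL (α × β) F)}
  (hM : ∀ (A : GL α F) (B : GL β F), (A : Matrix α α F).det = 1 → (B : Matrix β β F).det = 1 →
    kr (A, B) ∈ M)

include hM

/-- All root elements `e_i e_jᵀ`. -/
theorem allK_single (hα : 2 ≤ Fintype.card α) {u φ : α → F} (hu : u ≠ 0) (hφ : φ ≠ 0)
    (h0 : φ ⬝ᵥ u = 0) (h : AllK M (vecMulVec u φ)) {i j : α} (hij : i ≠ j) (c : F) :
    AllK M (vecMulVec (Pi.single i c) (Pi.single j 1)) := by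
  -- move u to e_i
  have hi0 : (Pi.single i 1 : α → F) ≠ 0 := by
    intro h; have := congrFun h i; simp at this
  obtain ⟨A, hA, hAu⟩ := H905.exists_sl_vec (F := F) hu hi0 hα
  rw [H905.mem_sl_iff] at hA
  have h1 := AllK.conj hM h hA
  rw [mul_vecMulVec, hAu, vecMulVec_mul] at h1
  set φ1 := φ ᵥ* ((A⁻¹ : GL α F) : Matrix α α F) with hφ1
  have hφ1i : φ1 ⬝ᵥ Pi.single i 1 = 0 := by
    rw [hφ1, ← hAu, ← dotProduct_mulVec, mulVec_mulVec, ← Units.val_mul, inv_mul_cancel,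
      Units.val_one, one_mulVec, h0]
  have hφ10 : φ1 ≠ 0 := by
    intro h2
    apply hφ
    have h3 : φ = φ1 ᵥ* (A : Matrix α α F) := by
      rw [hφ1, vecMul_vecMul, ← Units.val_mul, inv_mul_cancel, Units.val_one, vecMul_one]
    rw [h3, h2, zero_vecMul]
  have key : AllK M (vecMulVec (Pi.single i 1) (Pi.single j 1)) := by
    by_cases hne : ∃ d : F, φ1 = d • (Pi.single j 1 : α → F)
    · obtain ⟨d, hd⟩ := hne
      have hd0 : d ≠ 0 := by rintro rfl; exact hφ10 (by rw [hd, zero_smul])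
      have h2 := h1.smul d⁻¹
      rwa [hd, vecMulVec_smul, smul_smul, inv_mul_cancel₀ hd0, one_smul] at h2
    · obtain ⟨z, hz1, hz2⟩ := exists_dot_pair hne
      have h2 := AllK.comm_tv hM h1 (u := z) (φ := Pi.single j 1) (by
        rw [dotProduct_comm]; exact hz2)
      have h3 : (Pi.single j 1 : α → F) ⬝ᵥ (vecMulVec (Pi.single i 1) φ1 *ᵥ z) = 0 := by
        rw [vecMulVec_mulVec, op_smul_eq_smul, dotProduct_smul]
        simp [hij]
      have h4 : (Pi.single j 1 : α → F) ᵥ* vecMulVec (Pi.single i 1) φ1 = 0 := by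
        rw [vecMul_vecMulVec]
        simp [hij]
      have h5 : vecMulVec (Pi.single i 1) φ1 *ᵥ z = (Pi.single i 1 : α → F) := by
        rw [vecMulVec_mulVec, op_smul_eq_smul, dotProduct_comm, hz1, one_smul]
      rw [h3, h4, h5, vecMulVec_zero, zero_smul, sub_zero, zero_sub] at h2
      simpa using h2.neg
  have h6 := key.smul c
  have h7 : c • vecMulVec (Pi.single i (1 : F)) (Pi.single j (1 : F)) =
      vecMulVec (Pi.single i c) (Pi.single j 1) := by
    rw [← smul_vecMulVec]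
    congr 1
    funext k
    simp [Pi.single_apply]
  rwa [h7] at h6

/-- `M` contains `SL`. -/
theorem sl_le_of_allK (hα : 2 ≤ Fintype.card α) (hβ : 3 ≤ Fintype.card β) {u φ : α → F}
    (hu : u ≠ 0) (hφ : φ ≠ 0) (h0 : φ ⬝ᵥ u = 0) (h : AllK M (vecMulVec u φ)) :
    Cfsg.Geo.specialLinear (α × β) F ≤ M := by
  -- base case
  have base : ∀ (i j : α) (k l : β), i ≠ j → k ≠ l → ∀ c : F,
      HasTv M (c • Pi.single (i, k) 1) (Pi.single (j, l) 1) := by
    intro i j k l hij hkl c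
    obtain ⟨h1, g, hg, he⟩ := allK_single hM hα hu hφ h0 h hij c (Pi.single k 1) (Pi.single l 1)
      (by simp [hkl])
    refine ⟨by simp [hij], g, hg, ?_⟩
    rw [he, vecMulVec_kronecker, ten_single, ten_single, mul_one, one_mul]
    congr 2
    funext p
    simp [Pi.single_apply]
  have hcomm : ∀ (x y z : α × β), x ≠ y → (∀ c : F, HasTv M (c • Pi.single x 1) (Pi.single z 1)) →
      (∀ c : F, HasTv M (c • Pi.single z 1) (Pi.single y 1)) →
      ∀ c : F, HasTv M (c • Pi.single x 1) (Pi.single y 1) := by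
    intro x y z hxy h1 h2 c
    have h3 := (h2 1).comm (h1 c) (by simp [hxy])
    rw [one_smul] at h3
    simpa using h3
  have : Nonempty α := Fintype.card_pos_iff.1 (by omega)
  have : Nonempty β := Fintype.card_pos_iff.1 (by omega)
  have hex2 : ∀ i : α, ∃ j, j ≠ i := fun i => by
    have := Fintype.one_lt_card_iff_nontrivial.1 (show 1 < Fintype.card α by omega)
    exact exists_ne i
  have hex3 : ∀ k l : β, ∃ m, m ≠ k ∧ m ≠ l := by
    intro k l
    have h1 : ({k, l} : Finset β).card < Fintype.card β := by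
      have := Finset.card_le_two (a := k) (b := l)
      omega
    obtain ⟨m, hm⟩ := Finset.exists_mem_notMem_of_card_lt_card (s := {k, l})
      (t := (Finset.univ : Finset β)) (by rwa [Finset.card_univ])
    refine ⟨m, ?_, ?_⟩
    · rintro rfl; exact hm.2 (by simp)
    · rintro rfl; exact hm.2 (by simp)
  have case2 : ∀ (i : α) (k l : β), k ≠ l → ∀ c : F,
      HasTv M (c • Pi.single (i, k) 1) (Pi.single (i, l) 1) := by
    intro i k l hkl
    obtain ⟨i', hi'⟩ := hex2 i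
    obtain ⟨k', hk'1, hk'2⟩ := hex3 k l
    exact hcomm (i, k) (i, l) (i', k') (by simp [hkl]) (base i i' k k' hi'.symm hk'1.symm)
      (base i' i k' l hi' hk'2)
  have : Nontrivial (α × β) := by
    have : Nontrivial β := Fintype.one_lt_card_iff_nontrivial.1 (show 1 < Fintype.card β by omega)
    infer_instance
  refine specialLinear_le_of_hasTv ?_
  rintro ⟨i, k⟩ ⟨j, l⟩ hne
  by_cases hij : i = j
  · subst hij
    exact case2 i k l (by rintro rfl; exact hne rfl)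
  · by_cases hkl : k = l
    · subst hkl
      obtain ⟨k', hk', -⟩ := hex3 k k
      exact hcomm (i, k) (j, k) (i, k') hne (case2 i k k' hk'.symm) (base i j k' k hij hk')
    · exact base i j k l hij hkl

/-- **From a non-scalar `Y` to `SL`.** -/
theorem sl_le_of_hasK (hα : 2 ≤ Fintype.card α) (hβ : 3 ≤ Fintype.card β)
    (hF : 3 ≤ Fintype.card α ∨ ∃ t : F, t ≠ 0 ∧ t ≠ 1) {Y : Matrix α α F} {w ψ : β → F}
    (hw : w ≠ 0) (hψ : ψ ≠ 0) (h : HasK M Y w ψ)
    (hY : ¬ ∃ c : F, Y = c • (1 : Matrix α α F)) :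
    Cfsg.Geo.specialLinear (α × β) F ≤ M := by
  obtain ⟨u, φ, hu, hφ, h0, h1⟩ := exists_rankOne hM (HasK.all hM hβ hw hψ h) hY hF
  exact sl_le_of_allK hM hα hβ hu hφ h0 h1

end

end Cfsg.Agent.H872
end

-- part: H872/KronStab
section
/-!
Elements of `M` acting trivially on a column `col w` and on the quotient by it; the stabiliser of a
column.
-/

set_option autoImplicit false
set_option linter.unusedSectionVars false

namespace Cfsg.Agent.H872

open Matrix Cfsg.Agent.H873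
open scoped Kronecker

variable {α β : Type} [Fintype α] [DecidableEq α] [Fintype β] [DecidableEq β] {F : Type*} [Field F]

theorem scalar_of_comm_scalar {Y : Matrix α α F}
    (hF : 3 ≤ Fintype.card α ∨ ∃ t : F, t ≠ 0 ∧ t ≠ 1)
    (h : ∀ u φ : α → F, φ ⬝ᵥ u = 0 → ∃ c : F, (1 + vecMulVec u φ) * Y =
      Y * (1 + vecMulVec u φ) + c • (1 + vecMulVec u φ)) :
    ∃ c : F, Y = c • (1 : Matrix α α F) := by
  refine exists_scalar_of_dual fun u φ hφu => ?_
  by_cases hu : u = 0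
  · rw [hu, mulVec_zero, dotProduct_zero]
  by_cases hφ : φ = 0
  · rw [hφ, zero_dotProduct]
  set c0 := φ ⬝ᵥ (Y *ᵥ u) with hc0
  -- the relation, for all t
  have key : ∀ t : F, ∀ x : α → F, t • ((φ ⬝ᵥ (Y *ᵥ x)) • u) = t • ((φ ⬝ᵥ x) • (Y *ᵥ u)) +
      (t * c0) • (x + (t * (φ ⬝ᵥ x)) • u) := by
    intro t x
    obtain ⟨c, hc⟩ := h (t • u) φ (by rw [dotProduct_smul, hφu, smul_zero])
    have h1 : ∀ x : α → F, t • ((φ ⬝ᵥ (Y *ᵥ x)) • u) = t • ((φ ⬝ᵥ x) • (Y *ᵥ u)) +
        c • (x + (t * (φ ⬝ᵥ x)) • u) := by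
      intro x
      have h2 := congrArg (fun N => N *ᵥ x) hc
      simp only [add_mulVec, ← mulVec_mulVec, one_mulVec, vecMulVec_mulVec, op_smul_eq_smul,
        smul_mulVec, mulVec_add, mulVec_smul] at h2
      have h3 : Y *ᵥ x + (φ ⬝ᵥ (Y *ᵥ x)) • t • u = Y *ᵥ x + ((φ ⬝ᵥ x) • t • (Y *ᵥ u) +
          c • (x + (φ ⬝ᵥ x) • t • u)) := by
        rw [← add_assoc]; exact h2
      have h4 := add_left_cancel h3
      rw [smul_comm t, h4, smul_comm (φ ⬝ᵥ x) t (Y *ᵥ u), smul_smul (φ ⬝ᵥ x) t u, mul_comm]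
    have h2 := h1 u
    rw [hφu, mul_zero, zero_smul, smul_zero, zero_smul, add_zero, zero_add, ← hc0, smul_smul] at h2
    have h3 : t * c0 = c := by
      obtain ⟨i, hi⟩ : ∃ i, u i ≠ 0 := by
        by_contra hcon
        push Not at hcon
        exact hu (funext hcon)
      have h4 := congrFun h2 i
      simp only [Pi.smul_apply, smul_eq_mul] at h4
      exact mul_right_cancel₀ hi h4
    rw [h3]
    exact h1 x
  rcases hF with hα | ⟨t, ht0, ht1⟩
  · obtain ⟨x, hx0, hx1, hx2⟩ := exists_kill_two (F := F) hα φ (φ ᵥ* Y)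
    rw [dotProduct_comm] at hx1 hx2
    rw [← dotProduct_mulVec] at hx2
    have h1 := key 1 x
    rw [hx1, hx2] at h1
    simp only [one_mul, zero_smul, smul_zero, add_zero, zero_add] at h1
    rcases smul_eq_zero.1 h1.symm with h2 | h2
    · exact h2
    · exact absurd h2 hx0
  · obtain ⟨x, hx⟩ := exists_dot_one hφ
    have h1 := key 1 x
    have h2 := key t x
    rw [hx] at h1 h2
    have h3 : t • ((φ ⬝ᵥ (Y *ᵥ x)) • u) = t • ((Y *ᵥ u) + c0 • (x + u)) := by
      rw [show (φ ⬝ᵥ (Y *ᵥ x)) • u = (Y *ᵥ u) + c0 • (x + u) by simpa using h1]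
    rw [h3] at h2
    have h4 : (t * c0 * (1 - t)) • u = 0 := by
      have h5 : t • ((Y *ᵥ u) + c0 • (x + u)) - (t • ((1 : F) • (Y *ᵥ u)) +
        (t * c0) • (x + (t * 1) • u)) = 0 := sub_eq_zero.2 h2
      rw [← h5]
      module
    rcases smul_eq_zero.1 h4 with h5 | h5
    · rcases mul_eq_zero.1 h5 with h6 | h6
      · rcases mul_eq_zero.1 h6 with h7 | h7
        · exact absurd h7 ht0
        · exact h7
      · exact absurd (sub_eq_zero.1 h6).symm ht1
    · exact absurd h5 hu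

theorem kr_one_one : kr ((1 : GL α F), (1 : GL β F)) = 1 := map_one kr

/-- `g` acts trivially on `col w` and on the quotient by it. -/
def IsUc (w : β → F) (g : GL (α × β) F) : Prop :=
  (∀ v, (g : Matrix (α × β) (α × β) F) *ᵥ v - v ∈ col w) ∧
    ∀ u, (g : Matrix (α × β) (α × β) F) *ᵥ ten u w = ten u w

theorem exists_Z {w : β → F} (hw : w ≠ 0) {g : GL (α × β) F} (h : IsUc w g) :
    ∃ Z : (α × β → F) →ₗ[F] (α → F), (∀ v, (g : Matrix (α × β) (α × β) F) *ᵥ v = v + ten (Z v) w) ∧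
      ∀ u, Z (ten u w) = 0 := by
  obtain ⟨ξ, hξ⟩ := exists_dot_one hw
  rw [dotProduct_comm] at hξ
  refine ⟨rc ξ ∘ₗ (Matrix.toLin' ((g : Matrix (α × β) (α × β) F) - 1)), fun v => ?_, fun u => ?_⟩
  · obtain ⟨x, hx⟩ := mem_col.1 (h.1 v)
    rw [LinearMap.comp_apply, Matrix.toLin'_apply, sub_mulVec, one_mulVec, ← hx, rc_ten, hξ,
      one_smul, hx]
    abel
  · rw [LinearMap.comp_apply, Matrix.toLin'_apply, sub_mulVec, one_mulVec, h.2, sub_self, map_zero]

theorem eq_sum_ten_right (u : α → F) (w : β → F) : ten u w = ∑ j, w j • ten u (Pi.single j (1 : F)) := by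
  funext p
  simp only [ten_apply, Finset.sum_apply, Pi.smul_apply, smul_eq_mul]
  rw [Finset.sum_eq_single p.2]
  · simp; ring
  · intro j _ hj
    simp [Ne.symm hj]
  · intro h; exact absurd (Finset.mem_univ _) h

/-- The matrix of `u ↦ Z (u ⊗ y)`. -/
noncomputable def Zy (Z : (α × β → F) →ₗ[F] (α → F)) (y : β → F) : Matrix α α F :=
  LinearMap.toMatrix' (Z ∘ₗ { toFun := fun u => ten u y
                              map_add' := fun u u' => ten_add_left u u' y
                              map_smul' := fun c u => ten_smul_left c u y })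

theorem Zy_mulVec (Z : (α × β → F) →ₗ[F] (α → F)) (y : β → F) (u : α → F) :
    Zy Z y *ᵥ u = Z (ten u y) := by
  rw [Zy, ← Matrix.toLin'_apply, Matrix.toLin'_toMatrix']
  rfl

theorem eq_rt_of_scalar [Nonempty α] {w : β → F} {g : GL (α × β) F}
    {Z : (α × β → F) →ₗ[F] (α → F)} (hg : ∀ v, (g : Matrix (α × β) (α × β) F) *ᵥ v = v + ten (Z v) w)
    (hZ : ∀ u, Z (ten u w) = 0) (hs : ∀ y, ∃ c : F, Zy Z y = c • (1 : Matrix α α F)) :
    ∃ (ψ : β → F) (h : ψ ⬝ᵥ w = 0), g = rt w ψ h := by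
  choose c hc using hs
  let ζ : β → F := fun j => c (Pi.single j 1)
  have h1 : Z = rc ζ := by
    refine linearMap_ext_ten fun u y => ?_
    rw [eq_sum_ten_right, map_sum, map_sum]
    refine Finset.sum_congr rfl fun j _ => ?_
    rw [map_smul, map_smul, ← Zy_mulVec, hc, rc_ten, smul_mulVec, one_mulVec]
    simp [ζ]
  have h2 : ζ ⬝ᵥ w = 0 := by
    obtain ⟨i⟩ := ‹Nonempty α›
    have h3 := hZ (Pi.single i 1)
    rw [h1, rc_ten] at h3
    have h4 := congrFun h3 i
    simpa using h4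
  refine ⟨ζ, h2, ?_⟩
  apply gl_ext
  intro x
  rw [hg, rt_mulVec, h1]

/-- Every element of `M` trivial on a column and the quotient is a root element. -/
def AllRt (M : Subgroup (GL (α × β) F)) : Prop :=
  ∀ w : β → F, w ≠ 0 → ∀ g ∈ M, IsUc w g → ∃ (ψ : β → F) (h : ψ ⬝ᵥ w = 0), g = rt w ψ h

section

variable {M : Subgroup (GL (α × β) F)}
  (hM : ∀ (A : GL α F) (B : GL β F), (A : Matrix α α F).det = 1 → (B : Matrix β β F).det = 1 →
    kr (A, B) ∈ M)

include hM

theorem sl_le_of_not_allRt (hα : 2 ≤ Fintype.card α) (hβ : 3 ≤ Fintype.card β)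
    (hF : 3 ≤ Fintype.card α ∨ ∃ t : F, t ≠ 0 ∧ t ≠ 1) (h : ¬ AllRt M) :
    Cfsg.Geo.specialLinear (α × β) F ≤ M := by
  have : Nonempty α := Fintype.card_pos_iff.1 (by omega)
  unfold AllRt at h
  push Not at h
  obtain ⟨w, hw, g, hg, hu, hne⟩ := h
  obtain ⟨Z, hZ1, hZ2⟩ := exists_Z hw hu
  have h1 : ∃ y, ¬ ∃ c : F, Zy Z y = c • (1 : Matrix α α F) := by
    by_contra hcon
    push Not at hcon
    obtain ⟨ψ, h0, h1⟩ := eq_rt_of_scalar hZ1 hZ2 hcon
    exact hne ψ h0 h1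
  obtain ⟨y, hy⟩ := h1
  obtain ⟨ψ, hψ, hψw, hψy⟩ := exists_kill_two (F := F) hβ w y
  have hk := kr_one_tv_mem hM hψy
  set k : GL (α × β) F := kr ((1 : GL α F), tv y ψ hψy) with hkdef
  have hkv : ∀ v, (k : Matrix (α × β) (α × β) F) *ᵥ v = v + ten (rc ψ v) y :=
    fun v => rt_mulVec y ψ hψy v
  have hkinv : ∀ v, ((k⁻¹ : GL (α × β) F) : Matrix (α × β) (α × β) F) *ᵥ v =
      v - ten (rc ψ v) y := by
    intro v
    have h2 : (k : Matrix (α × β) (α × β) F) *ᵥ (v - ten (rc ψ v) y) = v := by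
      rw [hkv, map_sub, rc_ten, hψy, zero_smul, sub_zero]
      abel
    conv_lhs => rw [← h2]
    rw [inv_mulVec_mulVec]
  have hginv : ∀ v, ((g⁻¹ : GL (α × β) F) : Matrix (α × β) (α × β) F) *ᵥ v =
      v - ten (Z v) w := by
    intro v
    have h2 : (g : Matrix (α × β) (α × β) F) *ᵥ (v - ten (Z v) w) = v := by
      rw [hZ1, map_sub, hZ2, sub_zero]
      abel
    conv_lhs => rw [← h2]
    rw [inv_mulVec_mulVec]
  have hmem : k * g * k⁻¹ * g⁻¹ ∈ M :=
    M.mul_mem (M.mul_mem (M.mul_mem hk hg) (M.inv_mem hk)) (M.inv_mem hg)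
  have hK : HasK M (- Zy Z y) w ψ := by
    refine ⟨hψw, _, hmem, ?_⟩
    apply Matrix.mulVec_injective
    funext v
    rw [add_mulVec, one_mulVec, kron_vecMulVec_mulVec, neg_mulVec, Zy_mulVec, ten_neg_left,
      Units.val_mul, Units.val_mul, Units.val_mul, ← mulVec_mulVec, ← mulVec_mulVec,
      ← mulVec_mulVec, hginv, hkinv, hZ1, hkv]
    simp only [map_sub, map_add, rc_ten, hψw, hψy, zero_smul, sub_zero, add_zero, hZ2]
    rw [ten_sub_left]
    abel
  refine sl_le_of_hasK hM hα hβ hF hw hψ hK ?_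
  rintro ⟨c, hc⟩
  exact hy ⟨-c, by rw [neg_smul, ← hc, neg_neg]⟩

/-- The stabiliser of a column in `M` consists of Kronecker products. -/
theorem mem_range_kr_of_stab (hα : 2 ≤ Fintype.card α)
    (hF : 3 ≤ Fintype.card α ∨ ∃ t : F, t ≠ 0 ∧ t ≠ 1) (hall : AllRt M) {w : β → F} (hw : w ≠ 0)
    {g : GL (α × β) F} (hg : g ∈ M)
    (hst : ∀ u, ∃ u', (g : Matrix (α × β) (α × β) F) *ᵥ ten u w = ten u' w) :
    ∃ x : GL α F × GL β F, kr x = g := by
  classical
  have : Nonempty α := Fintype.card_pos_iff.1 (by omega)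
  -- the action X on the column
  obtain ⟨ξ, hξ⟩ := exists_dot_one hw
  rw [dotProduct_comm] at hξ
  let Xl : (α → F) →ₗ[F] (α → F) := rc ξ ∘ₗ Matrix.toLin' (g : Matrix (α × β) (α × β) F) ∘ₗ
    { toFun := fun u => ten u w
      map_add' := fun u u' => ten_add_left u u' w
      map_smul' := fun c u => ten_smul_left c u w }
  have hX : ∀ u, (g : Matrix (α × β) (α × β) F) *ᵥ ten u w = ten (Xl u) w := by
    intro u
    obtain ⟨u', hu'⟩ := hst u
    have : Xl u = u' := by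
      change rc ξ (Matrix.toLin' (g : Matrix (α × β) (α × β) F) (ten u w)) = u'
      rw [Matrix.toLin'_apply, hu', rc_ten, hξ, one_smul]
    rw [this, hu']
  have hXinj : Function.Injective Xl := by
    rw [← LinearMap.ker_eq_bot, LinearMap.ker_eq_bot']
    intro u hu
    have h1 := hX u
    rw [hu, ten_zero_left] at h1
    have h2 : ten u w = 0 := by
      rw [← inv_mulVec_mulVec g (ten u w), h1, mulVec_zero]
    exact ten_left_injective hw (h2.trans (ten_zero_left w).symm)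
  let Xe : (α → F) ≃ₗ[F] (α → F) := LinearEquiv.ofInjectiveEndo Xl hXinj
  have hXe : ∀ u, Xe u = Xl u := fun u => rfl
  let X : GL α F := H905.glOf Xe
  have hXv : ∀ u, (X : Matrix α α F) *ᵥ u = Xl u := fun u => H905.glOf_mulVec Xe u
  -- g₁ = (X⁻¹ ⊗ 1) g
  let g₁ : GL (α × β) F := (kr (X, (1 : GL β F)))⁻¹ * g
  have hg₁ : ∀ v, (g₁ : Matrix (α × β) (α × β) F) *ᵥ v =
      (kr (X⁻¹, (1 : GL β F)) : Matrix (α × β) (α × β) F) *ᵥ
        ((g : Matrix (α × β) (α × β) F) *ᵥ v) := by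
    intro v
    rw [Units.val_mul, ← mulVec_mulVec]
    rfl
  have hg₁w : ∀ u, (g₁ : Matrix (α × β) (α × β) F) *ᵥ ten u w = ten u w := by
    intro u
    rw [hg₁, hX, kr_mulVec_ten, ← hXv, inv_mulVec_mulVec]
    simp
  -- the action on functionals killing w
  have hpsi : ∀ ψ : β → F, ψ ⬝ᵥ w = 0 → ∃ ψ' : β → F, ψ' ⬝ᵥ w = 0 ∧
      ∀ v, rc ψ' ((g₁ : Matrix (α × β) (α × β) F) *ᵥ v) = rc ψ v := by
    intro ψ hψ
    have hmem : g * rt w ψ hψ * g⁻¹ ∈ M :=
      M.mul_mem (M.mul_mem hg (kr_one_tv_mem hM hψ)) (M.inv_mem hg)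
    have hact : ∀ v, ((g * rt w ψ hψ * g⁻¹ : GL (α × β) F) : Matrix (α × β) (α × β) F) *ᵥ v =
        v + ten (Xl (rc ψ (((g⁻¹ : GL (α × β) F) : Matrix (α × β) (α × β) F) *ᵥ v))) w := by
      intro v
      rw [Units.val_mul, Units.val_mul, ← mulVec_mulVec, ← mulVec_mulVec, rt_mulVec, mulVec_add,
        mulVec_inv_mulVec, hX]
    have huc : IsUc w (g * rt w ψ hψ * g⁻¹) := by
      refine ⟨fun v => ?_, fun u => ?_⟩
      · rw [hact, add_sub_cancel_left]
        exact ten_mem_col _ _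
      · rw [hact]
        have h1 : ((g⁻¹ : GL (α × β) F) : Matrix (α × β) (α × β) F) *ᵥ ten u w =
            ten (Xe.symm u) w := by
          have h2 : ten u w = (g : Matrix (α × β) (α × β) F) *ᵥ ten (Xe.symm u) w := by
            rw [hX, ← hXe, LinearEquiv.apply_symm_apply]
          rw [h2, inv_mulVec_mulVec]
        rw [h1, rc_ten, hψ, zero_smul, map_zero, ten_zero_left, add_zero]
    obtain ⟨ψ', h0, h1⟩ := hall w hw _ hmem huc
    refine ⟨ψ', h0, fun v => ?_⟩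
    have h2 := hact ((g : Matrix (α × β) (α × β) F) *ᵥ v)
    rw [h1, rt_mulVec, inv_mulVec_mulVec] at h2
    have h3 := ten_left_injective hw (add_left_cancel h2)
    rw [hg₁, coe_kr, rc_kron, Units.val_one, vecMul_one, h3, ← hXv, inv_mulVec_mulVec]
  -- the map β on W
  have hα0 : 0 < Fintype.card α := by omega
  obtain ⟨i0⟩ := ‹Nonempty α›
  let e0 : α → F := Pi.single i0 1
  have he00 : e0 ⬝ᵥ e0 = 1 := by simp [e0]
  let Bl : (β → F) →ₗ[F] (β → F) := lc e0 ∘ₗ Matrix.toLin' (g₁ : Matrix (α × β) (α × β) F) ∘ₗ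
    { toFun := fun y => ten e0 y
      map_add' := fun u u' => ten_add_right e0 u u'
      map_smul' := fun c u => ten_smul_right c e0 u }
  have hBl : ∀ y, Bl y = lc e0 ((g₁ : Matrix (α × β) (α × β) F) *ᵥ ten e0 y) := by
    intro y
    change lc e0 (Matrix.toLin' (g₁ : Matrix (α × β) (α × β) F) (ten e0 y)) = _
    rw [Matrix.toLin'_apply]
  have hBw : Bl w = w := by
    rw [hBl, hg₁w, lc_ten, he00, one_smul]
  have hlcrc : ∀ (φ : α → F) (ψ : β → F) (v : α × β → F), ψ ⬝ᵥ lc φ v = φ ⬝ᵥ rc ψ v := by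
    intro φ ψ v
    simp only [dotProduct, lc_apply, rc_apply, Finset.mul_sum]
    rw [Finset.sum_comm]
    exact Finset.sum_congr rfl fun i _ => Finset.sum_congr rfl fun j _ => by ring
  have hBpsi : ∀ ψ ψ' : β → F,
      (∀ v, rc ψ' ((g₁ : Matrix (α × β) (α × β) F) *ᵥ v) = rc ψ v) →
      ∀ y, ψ' ⬝ᵥ Bl y = ψ ⬝ᵥ y := by
    intro ψ ψ' h y
    rw [hBl, hlcrc, h, rc_ten, dotProduct_smul, he00, smul_eq_mul, mul_one]
  have hBinj : Function.Injective Bl := by
    rw [← LinearMap.ker_eq_bot, LinearMap.ker_eq_bot']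
    intro y hy
    by_cases hyw : ∃ c : F, y = c • w
    · obtain ⟨c, hc⟩ := hyw
      rw [hc, map_smul, hBw] at hy
      rw [hc, hy]
    · exfalso
      obtain ⟨ψ, h1, h2⟩ := exists_dot_pair hyw
      obtain ⟨ψ', -, h3⟩ := hpsi ψ h2
      have h4 := hBpsi ψ ψ' h3 y
      rw [hy, dotProduct_zero, h1] at h4
      exact zero_ne_one h4
  let Be : (β → F) ≃ₗ[F] (β → F) := LinearEquiv.ofInjectiveEndo Bl hBinj
  let B : GL β F := H905.glOf Be
  have hBv : ∀ u, (B : Matrix β β F) *ᵥ u = Bl u := fun u => H905.glOf_mulVec Be u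
  -- g₂ = (1 ⊗ B⁻¹) g₁
  let g₂ : GL (α × β) F := (kr ((1 : GL α F), B))⁻¹ * g₁
  have hg₂ : ∀ v, (g₂ : Matrix (α × β) (α × β) F) *ᵥ v =
      (kr ((1 : GL α F), B⁻¹) : Matrix (α × β) (α × β) F) *ᵥ
        ((g₁ : Matrix (α × β) (α × β) F) *ᵥ v) := by
    intro v
    rw [Units.val_mul, ← mulVec_mulVec]
    rfl
  have hBiw : ((B⁻¹ : GL β F) : Matrix β β F) *ᵥ w = w := by
    conv_lhs => rw [← hBw, ← hBv]
    rw [inv_mulVec_mulVec]
  have hg₂w : ∀ u, (g₂ : Matrix (α × β) (α × β) F) *ᵥ ten u w = ten u w := by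
    intro u
    rw [hg₂, hg₁w, kr_mulVec_ten, hBiw]
    simp
  -- vectors with all rc ψ v = 0, ψ w = 0, lie in col w
  have hcol : ∀ v : α × β → F, (∀ ψ : β → F, ψ ⬝ᵥ w = 0 → rc ψ v = 0) → v ∈ col w := by
    intro v hv
    refine mem_col.2 ⟨rc ξ v, ?_⟩
    funext p
    -- ψ = e_p - w_p ξ
    have h1 := hv (Pi.single p.2 1 - w p.2 • ξ) (by
      rw [sub_dotProduct, smul_dotProduct, hξ]; simp)
    have h2 := congrFun h1 p.1
    rw [rc_apply] at h2
    simp only [Pi.sub_apply, Pi.smul_apply, smul_eq_mul, sub_mul, Finset.sum_sub_distrib,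
      Pi.zero_apply] at h2
    rw [Finset.sum_eq_single p.2 (by intro j _ hj; simp [hj]) (by
      intro h; exact absurd (Finset.mem_univ _) h)] at h2
    rw [ten_apply, rc_apply, Finset.sum_mul]
    simp only [Pi.single_eq_same, one_mul] at h2
    rw [sub_eq_zero] at h2
    change _ = v (p.1, p.2)
    rw [h2]
    exact Finset.sum_congr rfl fun j _ => by ring
  have huc : IsUc w g₂ := by
    refine ⟨fun v => ?_, hg₂w⟩
    -- first for g₁ and B
    have h1 : ∀ v, (g₁ : Matrix (α × β) (α × β) F) *ᵥ v -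
        (kr ((1 : GL α F), B) : Matrix (α × β) (α × β) F) *ᵥ v ∈ col w := by
      intro v
      refine hcol _ fun ψ' hψ' => ?_
      -- ψ' comes from some ψ: surjectivity
      rw [map_sub, coe_kr, rc_kron, Units.val_one, one_mulVec]
      -- set ψ := ψ' ∘ B
      set ψ := ψ' ᵥ* (B : Matrix β β F) with hψdef
      have hψw : ψ ⬝ᵥ w = 0 := by
        rw [hψdef, ← dotProduct_mulVec, hBv, hBw, hψ']
      obtain ⟨ψ'', h0, h2⟩ := hpsi ψ hψw
      have h3 : ψ'' = ψ' := by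
        have h4 : ∀ y, ψ'' ⬝ᵥ y = ψ' ⬝ᵥ y := by
          intro y
          obtain ⟨z, rfl⟩ := Be.surjective y
          have h5 : Be z = Bl z := rfl
          rw [h5, hBpsi ψ ψ'' h2, hψdef, ← dotProduct_mulVec, hBv]
        funext j
        simpa using h4 (Pi.single j 1)
      rw [← h3, h2, sub_self]
    obtain ⟨x, hx⟩ := mem_col.1 (h1 v)
    refine mem_col.2 ⟨x, ?_⟩
    have h2 : (g₁ : Matrix (α × β) (α × β) F) *ᵥ v =
        (kr ((1 : GL α F), B) : Matrix (α × β) (α × β) F) *ᵥ v + ten x w := by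
      rw [hx]; abel
    rw [hg₂, h2, mulVec_add, kr_mulVec_ten, hBiw]
    have h3 : (kr ((1 : GL α F), B⁻¹) : Matrix (α × β) (α × β) F) *ᵥ
        ((kr ((1 : GL α F), B) : Matrix (α × β) (α × β) F) *ᵥ v) = v := by
      rw [mulVec_mulVec, ← Units.val_mul, ← map_mul]
      simp [kr_one_one]
    rw [h3]
    simp
  obtain ⟨Z, hZ1, hZ2⟩ := exists_Z hw huc
  have hg₂inv : ∀ v, ((g₂⁻¹ : GL (α × β) F) : Matrix (α × β) (α × β) F) *ᵥ v =
      v - ten (Z v) w := by
    intro v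
    have h2 : (g₂ : Matrix (α × β) (α × β) F) *ᵥ (v - ten (Z v) w) = v := by
      rw [hZ1, map_sub, hZ2, sub_zero]
      abel
    conv_lhs => rw [← h2]
    rw [inv_mulVec_mulVec]
  have hgeq : g = kr (X, B) * g₂ := by
    have h1 : kr (X, B) = kr (X, (1 : GL β F)) * kr ((1 : GL α F), B) := by
      rw [← map_mul]; simp
    rw [h1]
    change g = kr (X, (1 : GL β F)) * kr ((1 : GL α F), B) *
      ((kr ((1 : GL α F), B))⁻¹ * ((kr (X, (1 : GL β F)))⁻¹ * g))
    group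
  have hscal : ∀ y, ∃ c : F, Zy Z y = c • (1 : Matrix α α F) := by
    intro y
    refine scalar_of_comm_scalar hF fun u φ hφu => ?_
    set A : GL α F := tv u φ hφu with hA
    have hAdet : (A : Matrix α α F).det = 1 := by rw [hA, coe_tv]; exact det_tv u φ hφu
    -- m = g⁻¹ (X A X⁻¹ ⊗ 1) g (A ⊗ 1)⁻¹
    have hm1 : kr (X * A * X⁻¹, (1 : GL β F)) ∈ M := by
      refine hM _ _ ?_ (by simp)
      rw [Units.val_mul, Units.val_mul, det_mul, det_mul, hAdet, mul_one, ← det_mul,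
        ← Units.val_mul, mul_inv_cancel, Units.val_one, det_one]
    have hm2 : kr (A, (1 : GL β F)) ∈ M := hM _ _ hAdet (by simp)
    have hm : g⁻¹ * kr (X * A * X⁻¹, (1 : GL β F)) * g * (kr (A, (1 : GL β F)))⁻¹ ∈ M :=
      M.mul_mem (M.mul_mem (M.mul_mem (M.inv_mem hg) hm1) hg) (M.inv_mem hm2)
    have hmeq : g⁻¹ * kr (X * A * X⁻¹, (1 : GL β F)) * g * (kr (A, (1 : GL β F)))⁻¹ =
        g₂⁻¹ * kr (A, (1 : GL β F)) * g₂ * kr (A⁻¹, (1 : GL β F)) := by
      have h1 : (kr (X, B))⁻¹ * kr (X * A * X⁻¹, (1 : GL β F)) * kr (X, B) =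
          kr (A, (1 : GL β F)) := by
        rw [← map_inv, ← map_mul, ← map_mul]
        congr 1
        ext : 1
        · simp [mul_assoc]
        · simp
      have h2 : (kr (A, (1 : GL β F)))⁻¹ = kr (A⁻¹, (1 : GL β F)) := by
        rw [← map_inv]; simp
      calc g⁻¹ * kr (X * A * X⁻¹, (1 : GL β F)) * g * (kr (A, (1 : GL β F)))⁻¹
          = g₂⁻¹ * ((kr (X, B))⁻¹ * kr (X * A * X⁻¹, (1 : GL β F)) * kr (X, B)) * g₂ *
              (kr (A, (1 : GL β F)))⁻¹ := by rw [hgeq]; group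
        _ = _ := by rw [h1, h2]
    rw [hmeq] at hm
    set m := g₂⁻¹ * kr (A, (1 : GL β F)) * g₂ * kr (A⁻¹, (1 : GL β F)) with hmdef
    have hmv : ∀ v, (m : Matrix (α × β) (α × β) F) *ᵥ v = v +
        ten ((A : Matrix α α F) *ᵥ
          Z ((kr (A⁻¹, (1 : GL β F)) : Matrix (α × β) (α × β) F) *ᵥ v) - Z v) w := by
      intro v
      rw [hmdef, Units.val_mul, Units.val_mul, Units.val_mul, ← mulVec_mulVec, ← mulVec_mulVec,
        ← mulVec_mulVec, hZ1, mulVec_add, kr_mulVec_ten]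
      have h3 : (kr (A, (1 : GL β F)) : Matrix (α × β) (α × β) F) *ᵥ
          ((kr (A⁻¹, (1 : GL β F)) : Matrix (α × β) (α × β) F) *ᵥ v) = v := by
        rw [mulVec_mulVec, ← Units.val_mul, ← map_mul]
        simp [kr_one_one]
      rw [h3, hg₂inv, map_add, Units.val_one, one_mulVec, hZ2, add_zero, ten_sub_left]
      abel
    have hmuc : IsUc w m := by
      refine ⟨fun v => ?_, fun u' => ?_⟩
      · rw [hmv, add_sub_cancel_left]; exact ten_mem_col _ _
      · rw [hmv, kr_mulVec_ten, Units.val_one, one_mulVec, hZ2, hZ2, mulVec_zero, sub_zero,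
          ten_zero_left, add_zero]
    obtain ⟨ψ, h0, h1⟩ := hall w hw m hm hmuc
    refine ⟨ψ ⬝ᵥ y, ?_⟩
    -- evaluate at u' ⊗ y
    have h2 : ∀ u' : α → F, (A : Matrix α α F) *ᵥ (Zy Z y *ᵥ
        (((A⁻¹ : GL α F) : Matrix α α F) *ᵥ u')) - Zy Z y *ᵥ u' = (ψ ⬝ᵥ y) • u' := by
      intro u'
      have h3 := hmv (ten u' y)
      rw [h1, rt_mulVec, rc_ten, kr_mulVec_ten, Units.val_one, one_mulVec] at h3
      have h4 := ten_left_injective hw (add_left_cancel h3)
      rw [Zy_mulVec, Zy_mulVec]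
      exact h4.symm
    have hAeq : (A : Matrix α α F) = 1 + vecMulVec u φ := by rw [hA, coe_tv]
    rw [← hAeq]
    apply Matrix.mulVec_injective
    funext x
    have h5 := h2 ((A : Matrix α α F) *ᵥ x)
    rw [inv_mulVec_mulVec] at h5
    rw [add_mulVec, ← mulVec_mulVec, ← mulVec_mulVec, smul_mulVec, ← h5]
    abel
  obtain ⟨ψ, h0, h1⟩ := eq_rt_of_scalar hZ1 hZ2 hscal
  refine ⟨(X, B * tv w ψ h0), ?_⟩
  rw [hgeq, h1, rt, ← map_mul]
  simp

end

end Cfsg.Agent.H872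
end

-- part: H872/TensorMax
section
/-!
Overgroups of `SL(α) ⊗ SL(β)` in `GL (α × β) F`, `F` finite, `2 ≤ |α| < |β|`, `(|α|, |F|) ≠ (2, 2)`:
either all elements are Kronecker products or `SL` is contained.
-/

set_option autoImplicit false
set_option linter.unusedSectionVars false

namespace Cfsg.Agent.H872

open Matrix Cfsg.Agent.H873
open scoped Kronecker

variable {α β : Type} [Fintype α] [DecidableEq α] [Fintype β] [DecidableEq β] {F : Type*} [Field F]

/-- The stabiliser of a vector. -/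
def vecStab {ι : Type} [Fintype ι] [DecidableEq ι] (x : ι → F) : Subgroup (GL ι F) where
  carrier := {g | (g : Matrix ι ι F) *ᵥ x = x}
  mul_mem' {a b} ha hb := by
    change ((a * b : GL ι F) : Matrix ι ι F) *ᵥ x = x
    rw [Units.val_mul, ← mulVec_mulVec, show (b : Matrix ι ι F) *ᵥ x = x from hb,
      show (a : Matrix ι ι F) *ᵥ x = x from ha]
  one_mem' := by
    change ((1 : GL ι F) : Matrix ι ι F) *ᵥ x = x
    rw [Units.val_one, one_mulVec]
  inv_mem' {a} ha := by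
    change ((a⁻¹ : GL ι F) : Matrix ι ι F) *ᵥ x = x
    conv_lhs => rw [← show (a : Matrix ι ι F) *ᵥ x = x from ha]
    exact inv_mulVec_mulVec a x

theorem mem_vecStab {ι : Type} [Fintype ι] [DecidableEq ι] {x : ι → F} {g : GL ι F} :
    g ∈ vecStab x ↔ (g : Matrix ι ι F) *ᵥ x = x := Iff.rfl

theorem rt_pow_mulVec {w ψ : β → F} (h : ψ ⬝ᵥ w = 0) (n : ℕ) (v : α × β → F) :
    (((rt w ψ h : GL (α × β) F) ^ n : GL (α × β) F) : Matrix (α × β) (α × β) F) *ᵥ v =
      v + (n : F) • ten (rc ψ v) w := by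
  induction n with
  | zero => simp
  | succ n ih =>
    rw [pow_succ', Units.val_mul, ← mulVec_mulVec, ih, rt_mulVec, map_add, map_smul, rc_ten, h,
      zero_smul, smul_zero, add_zero, Nat.cast_succ, add_smul, one_smul, add_assoc]

theorem rt_pow_eq_one {p : ℕ} [CharP F p] {w ψ : β → F} (h : ψ ⬝ᵥ w = 0) :
    (rt w ψ h : GL (α × β) F) ^ p = 1 := by
  apply gl_ext
  intro x
  rw [rt_pow_mulVec, CharP.cast_eq_zero, zero_smul, add_zero, Units.val_one, one_mulVec]

/-- Some functional kills a vector when `card α < card β`. -/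
theorem exists_rc_eq_zero (hab : Fintype.card α < Fintype.card β) (x : α × β → F) :
    ∃ ψ : β → F, ψ ≠ 0 ∧ rc ψ x = 0 := by
  let f : (β → F) →ₗ[F] (α → F) :=
    { toFun := fun ψ => rc ψ x
      map_add' := fun ψ ψ' => by
        funext i
        simp only [rc_apply, Pi.add_apply, add_mul, Finset.sum_add_distrib]
      map_smul' := fun c ψ => by
        funext i
        simp only [rc_apply, Pi.smul_apply, smul_eq_mul, RingHom.id_apply, Finset.mul_sum]
        exact Finset.sum_congr rfl fun j _ => by ring }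
  have hker : LinearMap.ker f ≠ ⊥ := by
    intro hbot
    have h3 := LinearMap.finrank_le_finrank_of_injective (LinearMap.ker_eq_bot.1 hbot)
    rw [Module.finrank_fintype_fun_eq_card, Module.finrank_fintype_fun_eq_card] at h3
    omega
  obtain ⟨ψ, hψ, hψ0⟩ := Submodule.exists_mem_ne_zero_of_ne_bot hker
  exact ⟨ψ, hψ0, LinearMap.mem_ker.1 hψ⟩

theorem kron_dichotomy [Finite F] {M : Subgroup (GL (α × β) F)}
    (hM : ∀ (A : GL α F) (B : GL β F), (A : Matrix α α F).det = 1 → (B : Matrix β β F).det = 1 →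
      kr (A, B) ∈ M)
    (hα : 2 ≤ Fintype.card α) (hab : Fintype.card α < Fintype.card β)
    (hF : 3 ≤ Fintype.card α ∨ ∃ t : F, t ≠ 0 ∧ t ≠ 1) :
    Cfsg.Geo.specialLinear (α × β) F ≤ M ∨ ∀ g ∈ M, ∃ x : GL α F × GL β F, kr x = g := by
  have hβ : 3 ≤ Fintype.card β := by omega
  have : Nonempty α := Fintype.card_pos_iff.1 (by omega)
  by_cases hall : AllRt M
  swap
  · exact Or.inl (sl_le_of_not_allRt hM hα hβ hF hall)
  right
  have _hft : Fintype F := Fintype.ofFinite F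
  obtain ⟨p, hchar⟩ := CharP.exists F
  have hp : p.Prime := CharP.char_is_prime F p
  have hfin : Finite (GL (α × β) F) := inferInstance
  let H : Subgroup (GL (α × β) F) := M ⊓ (kr (α := α) (β := β) (F := F)).range
  let D : Set (GL (α × β) F) := {x | ∃ (w ψ : β → F) (h : ψ ⬝ᵥ w = 0), w ≠ 0 ∧ ψ ≠ 0 ∧ x = rt w ψ h}
  have hD : ∀ s ∈ D, s ∈ H ∧ ∃ k : ℕ, s ^ p ^ k = 1 := by
    rintro s ⟨w, ψ, h, hw, hψ, rfl⟩
    exact ⟨⟨kr_one_tv_mem hM h, ⟨_, rfl⟩⟩, 1, by rw [pow_one]; exact rt_pow_eq_one h⟩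
  have hTI : ∀ s ∈ D, ∀ g ∈ M, g * s * g⁻¹ ∈ H → g ∈ H := by
    rintro s ⟨w, ψ, h, hw, hψ, rfl⟩ g hg hgs
    obtain ⟨-, ⟨A, B⟩, hAB⟩ := hgs
    obtain ⟨w', ψ', h', hw', hψ', he⟩ := rt_of_conj hab h hw hψ hAB.symm
    obtain ⟨y, hy⟩ := exists_dot_one hψ
    have hgw : ∀ u, ∃ u', (g : Matrix (α × β) (α × β) F) *ᵥ ten u w = ten u' w' := by
      intro u
      have h1 : g * rt w ψ h = rt w' ψ' h' * g := by rw [← he]; group
      have h2 := congrArg (fun N : GL (α × β) F => (N : Matrix (α × β) (α × β) F) *ᵥ ten u y) h1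
      simp only [Units.val_mul, ← mulVec_mulVec, rt_mulVec, mulVec_add, rc_ten, hy,
        one_smul] at h2
      exact ⟨_, add_left_cancel h2⟩
    obtain ⟨B', hB', hB'w⟩ := H905.exists_sl_vec (F := F) hw' hw (by omega)
    rw [H905.mem_sl_iff] at hB'
    have hk : kr ((1 : GL α F), B') ∈ M := hM _ _ (by simp) hB'
    obtain ⟨x, hx⟩ := mem_range_kr_of_stab hM hα hF hall hw (g := kr ((1 : GL α F), B') * g)
      (M.mul_mem hk hg) (fun u => by
        obtain ⟨u', hu'⟩ := hgw u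
        refine ⟨u', ?_⟩
        rw [Units.val_mul, ← mulVec_mulVec, hu', kr_mulVec_ten, hB'w]
        simp)
    refine ⟨hg, ((1 : GL α F), B')⁻¹ * x, ?_⟩
    rw [map_mul, map_inv, hx]
    group
  have hHM : H ≤ M := inf_le_left
  have hroot : ∀ x : α × β → F, ∃ s ∈ D, s ∈ vecStab x := by
    intro x
    obtain ⟨ψ, hψ, hψx⟩ := exists_rc_eq_zero hab x
    obtain ⟨w, hw, hwψ, -⟩ := exists_kill_two (F := F) hβ ψ ψ
    rw [dotProduct_comm] at hwψ
    exact ⟨rt w ψ hwψ, ⟨w, ψ, hwψ, hw, hψ, rfl⟩, by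
      rw [mem_vecStab, rt_mulVec, hψx, ten_zero_left, add_zero]⟩
  have hpres : ∀ g ∈ M, ∀ x : α × β → F, ∃ y : GL α F × GL β F,
      ((g⁻¹ : GL (α × β) F) : Matrix (α × β) (α × β) F) *ᵥ x =
        (kr y : Matrix (α × β) (α × β) F) *ᵥ x := by
    intro g hg x
    obtain ⟨s, hs, hsx⟩ := hroot x
    obtain ⟨t, ht, htx⟩ := hroot (((g⁻¹ : GL (α × β) F) : Matrix (α × β) (α × β) F) *ᵥ x)
    have h2 : g * t * g⁻¹ ∈ vecStab x := by
      rw [mem_vecStab, Units.val_mul, Units.val_mul, ← mulVec_mulVec, ← mulVec_mulVec]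
      rw [mem_vecStab] at htx
      rw [htx, mulVec_inv_mulVec]
    have hfM : Finite M := inferInstance
    obtain ⟨m, hm, h, hh, e⟩ := H880.ti_transfer_one hp M H hHM D hD hTI (vecStab x) hs ht hg hsx h2
    obtain ⟨-, y, hy⟩ := hh
    refine ⟨y⁻¹, ?_⟩
    rw [e, _root_.mul_inv_rev, Units.val_mul, ← mulVec_mulVec, map_inv, hy]
    have h3 : ((m⁻¹ : GL (α × β) F) : Matrix (α × β) (α × β) F) *ᵥ x = x :=
      mem_vecStab.1 (Subgroup.inv_mem _ hm)
    rw [h3]
  intro g hg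
  refine mem_range_kr_of_pres hab fun u w => ?_
  obtain ⟨y, hy⟩ := hpres g⁻¹ (M.inv_mem hg) (ten u w)
  rw [inv_inv, kr_mulVec_ten] at hy
  exact ⟨_, _, hy⟩

/-! ### The theorem for `Geo.tensorProductSubgroup` -/

theorem two_elements [Fintype F] (h : Fintype.card F ≠ 2) : ∃ t : F, t ≠ 0 ∧ t ≠ 1 := by
  classical
  by_contra hcon
  push Not at hcon
  have h1 : (Finset.univ : Finset F) ⊆ {0, 1} := by
    intro t _
    by_cases ht : t = 0
    · simp [ht]
    · simp [hcon t ht]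
  have h2 := (Finset.card_le_card h1).trans Finset.card_le_two
  have h3 : 1 < Fintype.card F := Fintype.one_lt_card
  rw [Finset.card_univ] at h2
  omega

theorem isMaximalIn_map {G G' : Type*} [Group G] [Group G'] (f : G ≃* G') {K H : Subgroup G}
    (h : Cfsg.Geo.IsMaximalIn K H) :
    Cfsg.Geo.IsMaximalIn (K.map f.toMonoidHom) (H.map f.toMonoidHom) := by
  refine ⟨(Subgroup.map_lt_map_iff_of_injective f.injective).2 h.1, fun M h1 h2 => ?_⟩
  have h3 : M = (M.comap f.toMonoidHom).map f.toMonoidHom := by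
    rw [Subgroup.map_comap_eq_self_of_surjective f.surjective]
  have h4 : H ≤ M.comap f.toMonoidHom := Subgroup.map_le_iff_le_comap.1 h1
  have h5 : M.comap f.toMonoidHom ≤ K := by
    rw [h3] at h2
    exact (Subgroup.map_le_map_iff_of_injective f.injective).1 h2
  rcases h.2 _ h4 h5 with h6 | h6
  · left; rw [h3, h6]
  · right; rw [h3, h6]

/-- **Tensor product subgroups are maximal in `SL`.** -/
theorem tensorProductSubgroup_isMaximalIn {ι : Type} [Fintype ι] [DecidableEq ι] [Fintype F]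
    {n₁ n₂ : ℕ} (h1 : 2 ≤ n₁) (h12 : n₁ < n₂) (hex : ¬ (n₁ = 2 ∧ Fintype.card F = 2))
    (e : ι ≃ Fin n₁ × Fin n₂) (P : GL ι F) :
    Cfsg.Geo.IsMaximalIn (Cfsg.Geo.specialLinear ι F)
      (Cfsg.Geo.tensorProductSubgroup n₁ n₂ e P ⊓ Cfsg.Geo.specialLinear ι F) := by
  have hdet : ∀ g : GL (Fin n₁ × Fin n₂) F, embGL e P g ∈ Cfsg.Geo.specialLinear ι F ↔
      g ∈ Cfsg.Geo.specialLinear (Fin n₁ × Fin n₂) F := by
    intro g
    rw [mem_specialLinear_iff, mem_specialLinear_iff, coe_embGL, det_emb]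
  have hSL : (Cfsg.Geo.specialLinear (Fin n₁ × Fin n₂) F).map (embGL e P).toMonoidHom =
      Cfsg.Geo.specialLinear ι F := by
    ext g
    constructor
    · rintro ⟨x, hx, rfl⟩
      exact (hdet x).2 hx
    · intro hg
      refine ⟨(embGL e P).symm g, (hdet _).1 ?_, ?_⟩
      · rw [MulEquiv.apply_symm_apply]; exact hg
      · exact MulEquiv.apply_symm_apply _ _
  have hT : (Cfsg.Geo.kroneckerSubgroup n₁ n₂ F ⊓
      Cfsg.Geo.specialLinear (Fin n₁ × Fin n₂) F).map (embGL e P).toMonoidHom =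
      Cfsg.Geo.tensorProductSubgroup n₁ n₂ e P ⊓ Cfsg.Geo.specialLinear ι F := by
    rw [Subgroup.map_inf _ _ (embGL e P).toMonoidHom (embGL e P).injective, hSL, tensorProductSubgroup_eq]
  rw [← hT, ← hSL]
  apply isMaximalIn_map
  have hmem : ∀ x : GL (Fin n₁) F × GL (Fin n₂) F, kr x ∈ Cfsg.Geo.kroneckerSubgroup n₁ n₂ F :=
    fun x => ⟨x.1, x.2, rfl⟩
  have hsl : ∀ (A : GL (Fin n₁) F) (B : GL (Fin n₂) F), (A : Matrix (Fin n₁) (Fin n₁) F).det = 1 →
      (B : Matrix (Fin n₂) (Fin n₂) F).det = 1 →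
      kr (A, B) ∈ Cfsg.Geo.specialLinear (Fin n₁ × Fin n₂) F := by
    intro A B hA hB
    rw [mem_specialLinear_iff, coe_kr, det_kronecker, hA, hB]
    simp
  refine ⟨lt_of_le_of_ne inf_le_right fun h => ?_, fun M h2 h3 => ?_⟩
  · have h5 : Cfsg.Geo.specialLinear (Fin n₁ × Fin n₂) F ≤ Cfsg.Geo.kroneckerSubgroup n₁ n₂ F := by
      rw [← h]; exact inf_le_left
    exact H905.not_sl_le_kroneckerSubgroup h1 (by omega) h5
  · have hM : ∀ (A : GL (Fin n₁) F) (B : GL (Fin n₂) F),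
        (A : Matrix (Fin n₁) (Fin n₁) F).det = 1 → (B : Matrix (Fin n₂) (Fin n₂) F).det = 1 →
        kr (A, B) ∈ M := fun A B hA hB => h2 ⟨hmem _, hsl A B hA hB⟩
    have hF : 3 ≤ Fintype.card (Fin n₁) ∨ ∃ t : F, t ≠ 0 ∧ t ≠ 1 := by
      by_cases h : 3 ≤ n₁
      · left; simpa using h
      · right
        exact two_elements fun h4 => hex ⟨by omega, h4⟩
    rcases kron_dichotomy hM (by simpa using h1) (by simpa using h12) hF with h4 | h4
    · right
      exact le_antisymm h3 h4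
    · left
      refine le_antisymm (fun g hg => ⟨?_, h3 hg⟩) h2
      obtain ⟨x, rfl⟩ := h4 g hg
      exact hmem x

end Cfsg.Agent.H872
end
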